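import Groth.Agent.OmegaSheaf.IdealMod
import Groth.Agent.QCohMod.ClosedImm
import Groth.Agent.QCohMod.FTCriterion
import Groth.Agent.CohBase.AffinePush
import Groth.Agent.CohC3.ModIdeal
import Groth.Agent.FlatMor2.NilBaseChange
import Groth.Agent.PicAux.PicLaw

/-!
The ideal of a flat deformation along an ideal killed by a maximal ideal is a sum of copies of the
structure sheaf of the closed fibre.
-/

set_option autoImplicit false
set_option linter.style.longLine false
set_option linter.style.haveILetI false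

noncomputable section

universe u

open CategoryTheory Limits AlgebraicGeometry Opposite TopologicalSpace

namespace Groth.FormalPic

variable {R : Type u} [CommRing R] {X : Scheme.{u}} (f : X ⟶ Spec (CommRingCat.of R))

/-- The ring map `R → Γ(X, U)`. -/
def bs (U : X.Opens) : R →+* Γ(X, U) :=
  (f.appLE ⊤ U le_top).hom.comp (Scheme.ΓSpecIso (CommRingCat.of R)).inv.hom

lemma bs_res {U V : X.Opens} (h : V ≤ U) (a : R) :
    X.presheaf.map (homOfLE h).op (bs f U a) = bs f V a := by
  change (f.appLE ⊤ U le_top ≫ X.presheaf.map (homOfLE h).op) _ = _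
  rw [Scheme.Hom.appLE_map]
  rfl

lemma ker_eq_map_symm {A B S T : Type u} [CommRing A] [CommRing B] [CommRing S] [CommRing T]
    (φ : A →+* B) (e : A ≃+* S) (e' : B ≃+* T) (g : S →+* T) (h : ∀ z, e' (φ z) = g (e z)) :
    RingHom.ker φ = (RingHom.ker g).map e.symm.toRingHom := by
  ext z
  rw [show (RingHom.ker g).map e.symm.toRingHom = (RingHom.ker g).comap e.toRingHom from Ideal.map_symm e,
    Ideal.mem_comap, RingHom.mem_ker, RingHom.mem_ker]
  exact ⟨fun hz => by rw [RingEquiv.toRingHom_eq_coe, RingEquiv.coe_toRingHom, ← h, hz, map_zero],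
    fun hz => e'.injective ((h z).trans (hz.trans (map_zero e').symm))⟩

lemma ideal_ker_specMk (J : Ideal R) :
    (Spec.map (CommRingCat.ofHom (Ideal.Quotient.mk J))).ker.ideal ⟨⊤, isAffineOpen_top _⟩ =
      J.map (Scheme.ΓSpecIso (CommRingCat.of R)).inv.hom := by
  have key := ker_eq_map_symm (Spec.map (CommRingCat.ofHom (Ideal.Quotient.mk J))).appTop.hom
    (Scheme.ΓSpecIso (CommRingCat.of R)).commRingCatIsoToRingEquiv
    (Scheme.ΓSpecIso (CommRingCat.of (R ⧸ J))).commRingCatIsoToRingEquiv (Ideal.Quotient.mk J)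
    (fun z => congr(($(Scheme.ΓSpecIso_naturality (CommRingCat.ofHom (Ideal.Quotient.mk J)))) z))
  rw [Ideal.mk_ker] at key
  exact (Scheme.Hom.ker_apply _ _).trans key

instance isClosedImmersion_specMk (J : Ideal R) : IsClosedImmersion (Spec.map (CommRingCat.ofHom (Ideal.Quotient.mk J))) :=
  IsClosedImmersion.spec_of_surjective _ Ideal.Quotient.mk_surjective

theorem ker_ideal_eq {X₁ : Scheme.{u}} {t : X₁ ⟶ X} (J : Ideal R)
    {f₁ : X₁ ⟶ Spec (CommRingCat.of (R ⧸ J))}
    (hc : IsPullback t f₁ f (Spec.map (CommRingCat.ofHom (Ideal.Quotient.mk J)))) (U : X.affineOpens) :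
    t.ker.ideal U = J.map (bs f U.1) := by
  rw [Groth.FlatMor2.ker_ideal_eq_map hc (isAffineOpen_top _) U.2 le_top, ideal_ker_specMk,
    Ideal.map_map]
  rfl

lemma flat_bs [Flat f] {U : X.Opens} (hU : IsAffineOpen U) : (bs f U).Flat :=
  RingHom.Flat.comp
    (RingHom.Flat.of_bijective (ConcreteCategory.bijective_of_isIso (Scheme.ΓSpecIso (CommRingCat.of R)).inv))
    (f.flat_appLE (isAffineOpen_top _) hU le_top)

variable {J M : Ideal R}

lemma mem_of_sum_eq_zero [Flat f] {r : ℕ} {a : Fin r → R}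
    (hind : ∀ c : Fin r → R, ∑ i, c i * a i = 0 → ∀ i, c i ∈ M)
    {U : X.Opens} (hU : IsAffineOpen U) {b : Fin r → Γ(X, U)}
    (h : ∑ i, bs f U (a i) * b i = 0) (i : Fin r) : b i ∈ M.map (bs f U) := by
  letI := (bs f U).toAlgebra
  haveI : Module.Flat R Γ(X, U) := flat_bs f hU
  obtain ⟨k, c, y, hb, hc⟩ := Module.Flat.isTrivialRelation_of_sum_smul_eq_zero (f := a) (x := b)
    (by simpa [Algebra.smul_def, RingHom.algebraMap_toAlgebra] using h)
  rw [hb i]
  refine Ideal.sum_mem _ fun j _ => ?_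
  rw [Algebra.smul_def, RingHom.algebraMap_toAlgebra]
  exact Ideal.mul_mem_right _ _ (Ideal.mem_map_of_mem _
    (hind (fun i => c i j) ((Finset.sum_congr rfl fun i _ => mul_comm _ _).trans (hc j)) i))

/-- A basis over `R ⧸ M` of an ideal killed by `M`. -/
theorem exists_basis [M.IsMaximal] (hJ : J.FG) (hJM : J * M = ⊥) :
    ∃ (r : ℕ) (a : Fin r → R), (∀ i, a i ∈ J) ∧ Ideal.span (Set.range a) = J ∧
      ∀ c : Fin r → R, ∑ i, c i * a i = 0 → ∀ i, c i ∈ M := by
  letI : Field (R ⧸ M) := Ideal.Quotient.field M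
  have ht : Module.IsTorsionBySet R J M := fun x c => Subtype.ext (by
    have := Ideal.mul_mem_mul x.2 c.2
    rw [hJM, Ideal.mem_bot, mul_comm] at this
    exact this)
  letI := ht.module
  haveI : IsScalarTower R (R ⧸ M) J := ht.isScalarTower
  haveI : Module.Finite R J := Module.Finite.iff_fg.2 hJ
  haveI : Module.Finite (R ⧸ M) J := Module.Finite.of_restrictScalars_finite R _ _
  let b := Module.finBasis (R ⧸ M) J
  have hmk : ∀ (c : R) (x : J), (Ideal.Quotient.mk M c) • x = c • x := fun c x => rfl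
  refine ⟨_, fun i => (b i : R), fun i => (b i).2, le_antisymm ?_ fun x hx => ?_, fun c hc i => ?_⟩
  · exact Ideal.span_le.2 (Set.range_subset_iff.2 fun i => (b i).2)
  · have hsum := b.sum_repr ⟨x, hx⟩
    choose c hc using fun i => Ideal.Quotient.mk_surjective (b.repr ⟨x, hx⟩ i)
    simp only [← hc, hmk] at hsum
    have := congrArg Subtype.val hsum
    rw [Submodule.coe_sum] at this
    refine (show x = _ from this.symm) ▸ ?_
    exact Ideal.sum_mem _ fun i _ => Ideal.mul_mem_left _ _ (Ideal.subset_span ⟨i, rfl⟩)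
  · have h0 : ∑ i, (Ideal.Quotient.mk M (c i)) • b i = 0 := Subtype.ext (by
      rw [Submodule.coe_sum]
      simpa [hmk] using hc)
    exact Ideal.Quotient.eq_zero_iff_mem.1 (Fintype.linearIndependent_iff.1 b.linearIndependent _ h0 i)

variable {X₀ : Scheme.{u}} (j : X₀ ⟶ X)

/-- The unit at the structure sheaf of a closed immersion. -/
abbrev unitO : Coh.structureModule X ⟶
    (Scheme.Modules.pushforward j).obj ((Scheme.Modules.pullback j).obj (Coh.structureModule X)) :=
  (Scheme.Modules.pullbackPushforwardAdjunction j).unit.app (Coh.structureModule X)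

theorem exists_unitO_desc [IsClosedImmersion j] {N : X.Modules} [N.IsQuasicoherent]
    (φ : Coh.structureModule X ⟶ N) (hN : ClSub.KilledByIdeal j.ker N) : ∃ ψ, unitO j ≫ ψ = φ := by
  haveI : Epi (unitO j) := Groth.CohC3.epi_of_cover _ fun x => by
    obtain ⟨U, hU, hx⟩ := QCohMod.exists_affine_mem x
    exact ⟨U, hU, hx, (QCohMod.unit_closedImmersion_app j _ hU).1⟩
  refine ⟨Abelian.epiDesc (unitO j) φ ?_, Abelian.comp_epiDesc _ _ _⟩
  refine Groth.CohC3.hom_eq_zero_of_cover _ fun x => ?_
  obtain ⟨U, hU, hx⟩ := QCohMod.exists_affine_mem x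
  refine ⟨U, hU, hx, fun s => ?_⟩
  have h0 : (unitO j).app U ((kernel.ι (unitO j)).app U s) = 0 :=
    congr(($(kernel.condition (unitO j))).app U s)
  change φ.app U ((kernel.ι (unitO j)).app U s) = 0
  refine Submodule.smul_induction_on (((QCohMod.unit_closedImmersion_app j _ hU).2 _).1 h0)
    (fun r hr m _ => ?_) (fun a b ha hb => by rw [map_add, ha, hb, add_zero])
  rw [φ.app_smul]
  exact hN ⟨U, hU⟩ r hr _

/-- Evaluation of morphisms at a section. -/
def evalAt {Z : Scheme.{u}} {A B : Z.Modules} (U : Z.Opens) (z : Γ(A, U)) : (A ⟶ B) →+ Γ(B, U) where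
  toFun φ := φ.app U z
  map_zero' := rfl
  map_add' _ _ := rfl

theorem subsingleton_hh_of_total {Z : Scheme.{u}} {r : ℕ} {Q N : Z.Modules} (g : Fin r → (Q ⟶ N))
    (p : Fin r → (N ⟶ Q)) (h : ∑ i, p i ≫ g i = 𝟙 N) (n : ℕ) [Subsingleton (Coh.HH Z Q n)] :
    Subsingleton (Coh.HH Z N n) := by
  refine subsingleton_of_forall_eq 0 fun x => ?_
  let hm : (N ⟶ N) →+ Coh.HH Z N n :=
    { toFun := fun φ => Sheaf.H.map ((SheafOfModules.toSheaf _).map φ) n x
      map_zero' := by
        rw [show (SheafOfModules.toSheaf _).map (0 : N ⟶ N) = 0 from Functor.map_zero _ _ _,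
          Sheaf.H.map_apply, Abelian.Ext.mk₀_zero, Abelian.Ext.comp_zero]
      map_add' := fun φ ψ => by
        rw [show (SheafOfModules.toSheaf _).map (φ + ψ) = (SheafOfModules.toSheaf _).map φ + (SheafOfModules.toSheaf _).map ψ from
          Functor.map_add _, Sheaf.H.map_add_apply] }
  have h1 : hm (𝟙 N) = x := by
    change Sheaf.H.map ((SheafOfModules.toSheaf _).map (𝟙 N)) n x = x
    rw [show (SheafOfModules.toSheaf _).map (𝟙 N) = 𝟙 _ from CategoryTheory.Functor.map_id _ _, Sheaf.H.map_id_apply]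
  rw [← h1, ← h, map_sum]
  refine Finset.sum_eq_zero fun i _ => ?_
  change Sheaf.H.map ((SheafOfModules.toSheaf _).map (p i ≫ g i)) n x = 0
  rw [← Formal.HHmap_comp, Subsingleton.elim (α := Coh.HH Z Q n) (Sheaf.H.map ((SheafOfModules.toSheaf _).map (p i)) n x) 0]
  exact map_zero _

/-- Cohomology of the ideal of the deformation vanishes where that of the closed fibre does. -/
theorem subsingleton_hh_idealMod [Flat f] [M.IsMaximal] (hJ : J.FG) (hJM : J * M = ⊥)
    {f₀ : X₀ ⟶ Spec (CommRingCat.of (R ⧸ M))}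
    (hc₀ : IsPullback j f₀ f (Spec.map (CommRingCat.ofHom (Ideal.Quotient.mk M))))
    {X₁ : Scheme.{u}} {t : X₁ ⟶ X} {f₁ : X₁ ⟶ Spec (CommRingCat.of (R ⧸ J))}
    (hc : IsPullback t f₁ f (Spec.map (CommRingCat.ofHom (Ideal.Quotient.mk J))))
    (n : ℕ) (h : Subsingleton (Coh.HH X₀ (Coh.structureModule X₀) n)) :
    Subsingleton (Coh.HH X (ClSub.idealMod t.ker) n) := by
  haveI : IsClosedImmersion j := MorphismProperty.of_isPullback hc₀.flip
    (IsClosedImmersion.spec_of_surjective _ Ideal.Quotient.mk_surjective)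
  haveI : IsClosedImmersion t := MorphismProperty.of_isPullback hc.flip
    (IsClosedImmersion.spec_of_surjective _ Ideal.Quotient.mk_surjective)
  haveI : (Coh.structureModule X).IsQuasicoherent := inferInstance
  haveI : HasFiniteBiproducts X.Modules := Abelian.hasFiniteBiproducts
  obtain ⟨r, a, ha, hspan, hind⟩ := exists_basis hJ hJM
  let N := ClSub.idealMod t.ker
  have hN : ClSub.KilledByIdeal j.ker N := fun U z hz k => by
    refine Groth.OmegaSheaf.idealSect_injective _ _ ?_
    refine (Groth.OmegaSheaf.idealSect_smul t.ker U.1 z k).trans (Eq.trans ?_ (map_zero _).symm)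
    have h1 := Ideal.mul_mem_mul (Groth.OmegaSheaf.idealSect_mem t.ker U k) hz
    rw [ker_ideal_eq f J hc, ker_ideal_eq f M hc₀, ← Ideal.map_mul, hJM, Ideal.map_bot,
      Ideal.mem_bot, mul_comm] at h1
    exact h1
  have hglob : ∀ i, ∃ k : Γ(N, ⊤), OmegaSh.idealSect t.ker ⊤ k = bs f ⊤ (a i) := fun i => by
    refine Groth.OmegaSheaf.exists_idealSect_eq _ _ _ ?_
    have hz : t.app ⊤ (bs f ⊤ (a i)) = 0 := by
      have h1 : f.appTop ≫ t.appTop =
          (Spec.map (CommRingCat.ofHom (Ideal.Quotient.mk J))).appTop ≫ f₁.appTop := by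
        rw [← Scheme.Hom.comp_appTop, ← Scheme.Hom.comp_appTop, hc.w]
      have h2 : (Spec.map (CommRingCat.ofHom (Ideal.Quotient.mk J))).appTop
          ((Scheme.ΓSpecIso (CommRingCat.of R)).inv (a i)) = 0 := by
        have h3 := congr($(Scheme.ΓSpecIso_inv_naturality (CommRingCat.ofHom (Ideal.Quotient.mk J))) (a i))
        rw [CommRingCat.comp_apply, CommRingCat.comp_apply] at h3
        rw [← h3, show CommRingCat.ofHom (Ideal.Quotient.mk J) (a i) = 0 from
          Ideal.Quotient.eq_zero_iff_mem.2 (ha i), map_zero]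
      have h4 := congr($h1 ((Scheme.ΓSpecIso (CommRingCat.of R)).inv (a i)))
      rw [CommRingCat.comp_apply, CommRingCat.comp_apply, h2, map_zero] at h4
      refine Eq.trans ?_ h4
      exact congrArg (t.app ⊤) (congr($(f.appLE_eq_app (U := ⊤)) _))
    have hinj := (ConcreteCategory.bijective_of_isIso (t.toImage.app (t.imageι ⁻¹ᵁ ⊤))).1
    refine hinj ?_
    rw [map_zero]
    change (t.imageι.app ⊤ ≫ t.toImage.app _) _ = 0
    exact congr($(Scheme.Hom.congr_app t.toImage_imageι ⊤) _).trans ((congrArg _ hz).trans (RingHom.map_zero _))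
  choose k hk using hglob
  choose g hg using fun i => exists_unitO_desc j (Groth.QCohMod.secHom N (k i)) hN
  let Q := (Scheme.Modules.pushforward j).obj ((Scheme.Modules.pullback j).obj (Coh.structureModule X))
  haveI : ((Scheme.Modules.pullback j).obj (Coh.structureModule X)).IsQuasicoherent :=
    Groth.QCohMod.isQCoh_pullback_obj _ _
  have hsec : ∀ (i) (U : X.Opens) (b : Γ(X, U)),
      OmegaSh.idealSect t.ker U ((g i).app U ((unitO j).app U b)) = b * bs f U (a i) := fun i U b => by
    rw [Groth.CohC3.app_comp_apply, hg]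
    change OmegaSh.idealSect t.ker U (b • N.presheaf.map (homOfLE (le_top : U ≤ ⊤)).op (k i)) = _
    rw [Groth.OmegaSheaf.idealSect_smul, Groth.OmegaSheaf.idealSect_res, hk, bs_res]
  let Φ : (⨁ fun _ : Fin r => Q) ⟶ N := biproduct.desc g
  haveI : IsIso Φ := by
    refine Groth.QCohMod.isIso_of_affine_bijective Φ fun U hU => ?_
    let su := (QCohMod.unit_closedImmersion_app j (Coh.structureModule X) hU)
    have htot : ∀ z, ∑ i, (biproduct.ι (fun _ : Fin r => Q) i).app U
        ((biproduct.π (fun _ : Fin r => Q) i).app U z) = z := fun z => by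
      have h1 : evalAt U z (∑ i, biproduct.π (fun _ : Fin r => Q) i ≫ biproduct.ι (fun _ : Fin r => Q) i) = z := by
        rw [biproduct.total]; rfl
      rw [map_sum] at h1
      exact h1
    have hΦ : ∀ z, Φ.app U z = ∑ i, (g i).app U ((biproduct.π (fun _ : Fin r => Q) i).app U z) := fun z => by
      conv_lhs => rw [← htot z, map_sum]
      refine Finset.sum_congr rfl fun i _ => ?_
      rw [Groth.CohC3.app_comp_apply, biproduct.ι_desc]
    constructor
    · refine (injective_iff_map_eq_zero _).2 fun z hz => ?_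
      have hb0 : ∀ i, ∃ b : Γ(X, U), (unitO j).app U b = (biproduct.π (fun _ : Fin r => Q) i).app U z :=
        fun i => su.1 _
      choose b hb using hb0
      have h0 : ∑ i, bs f U (a i) * b i = 0 := by
        have := congrArg (OmegaSh.idealSect t.ker U) hz
        rw [hΦ, map_sum, map_zero] at this
        refine (Finset.sum_congr rfl fun i _ => ?_).trans this
        rw [← hb i, hsec, mul_comm]
      rw [← htot z]
      refine Finset.sum_eq_zero fun i _ => ?_
      have : (unitO j).app U (b i) = 0 := (su.2 _).2 (by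
        rw [ker_ideal_eq f M hc₀ ⟨U, hU⟩]
        refine Eq.subst (motive := fun v => v ∈ _) (mul_one (b i)) ?_
        exact Submodule.smul_mem_smul (mem_of_sum_eq_zero f hind hU h0 i) trivial)
      rw [← hb i, this, map_zero]
    · intro y
      have hy : OmegaSh.idealSect t.ker U y ∈ Ideal.span (Set.range fun i => bs f U (a i)) := by
        have := Groth.OmegaSheaf.idealSect_mem t.ker ⟨U, hU⟩ y
        rw [ker_ideal_eq f J hc, ← hspan, Ideal.map_span, ← Set.range_comp] at this
        exact this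
      obtain ⟨b, hb⟩ := (Ideal.mem_span_range_iff_exists_fun).1 hy
      refine ⟨∑ i, (biproduct.ι (fun _ : Fin r => Q) i).app U ((unitO j).app U (b i)), ?_⟩
      refine Groth.OmegaSheaf.idealSect_injective _ _ ?_
      rw [← hb, map_sum, map_sum]
      refine Finset.sum_congr rfl fun i _ => ?_
      rw [Groth.CohC3.app_comp_apply, biproduct.ι_desc, hsec]
  haveI : Subsingleton (Coh.HH X Q n) := by
    obtain ⟨e⟩ := Groth.CohBase.nonempty_equiv_H_push j ((Scheme.Modules.pullback j).obj (Coh.structureModule X)) n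
    obtain ⟨eO⟩ := Groth.PicAux.pullback_structure_iso j
    have h' : Subsingleton (Coh.HH X₀ ((Scheme.Modules.pullback j).obj (Coh.structureModule X)) n) :=
      @Equiv.subsingleton _ _ (((Sheaf.functorH _ n).mapIso ((SheafOfModules.toSheaf.{u} X₀.ringCatSheaf).mapIso
        eO)).addCommGroupIsoToAddEquiv).toEquiv h
    exact @Equiv.subsingleton _ _ e.toEquiv h'
  refine subsingleton_hh_of_total g (fun i => inv Φ ≫ biproduct.π (fun _ : Fin r => Q) i) ?_ n
  rw [← cancel_epi Φ, Preadditive.comp_sum, Category.comp_id]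
  refine biproduct.hom_ext' _ _ fun i => ?_
  simp [Φ, biproduct.ι_π_assoc, Preadditive.comp_sum, ite_comp]

end Groth.FormalPic
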